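import Cfsg.Agent.Chars2.SingerTorus.Weyl

/-!
A word fixing a regular integral vector acts trivially.
-/

set_option autoImplicit false
set_option linter.unusedSectionVars false

universe u

namespace Cfsg.Agent.Chars2.SingerTorus

open Cfsg.Lie Cfsg.Agent.Chev Matrix

variable {D : ChevalleyDatum} (C : Cert.{u} D)
include C

/-- A word fixing a regular integral vector acts trivially on the roots. -/
theorem act_eq_self_of_int {M : CoxeterMatrix (Fin D.rank)} (hM : CoxOK D M) (L : List (Fin D.rank))
    (f : Fin D.rank → ℤ) (hAf : actMat C (L.map Fin.val) *ᵥ f = f)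
    (hφ0 : ∀ s < D.nroots, coefVec C s ⬝ᵥ f ≠ 0) : ∀ s < D.nroots, act D (L.map Fin.val) s = s := by
  classical
  have hLlt : ∀ (L : List (Fin D.rank)), ∀ a ∈ L.map Fin.val, a < D.rank := by
    intro L a ha
    obtain ⟨b, -, rfl⟩ := List.mem_map.mp ha
    exact b.isLt
  let φ : ℕ → ℤ := fun s => coefVec C s ⬝ᵥ f
  have hφA : ∀ s < D.nroots, φ (act D (L.map Fin.val) s) = φ s := fun s hs => by
    show coefVec C _ ⬝ᵥ f = _
    rw [coefVec_act C (hLlt L) hs, ← Matrix.dotProduct_mulVec, hAf]
  set cs := M.toCoxeterSystem with hcs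
  let ψ : M.Group → ℕ → ℤ := fun w s => φ (C.rootImage hM w s)
  have hψlin : ∀ w, ∀ s < D.nroots, ψ w s = ∑ j : Fin D.rank, C.coef s j * ψ w (D.simple j) := by
    intro w s hs
    obtain ⟨Lw, -, hw⟩ := cs.exists_reduced_word w
    have hj : ∀ j : Fin D.rank, ψ w (D.simple j) = (actMat C (Lw.map Fin.val) *ᵥ f) j := fun j => by
      show φ (C.rootImage hM w _) = _
      rw [hw, C.rootImage_wordProd hM Lw (C.simple_lt j j.isLt)]
      rfl
    rw [Finset.sum_congr rfl fun j _ => by rw [hj j]]
    show φ (C.rootImage hM w s) = _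
    rw [hw, C.rootImage_wordProd hM Lw hs]
    show coefVec C _ ⬝ᵥ f = _
    rw [coefVec_act C (hLlt Lw) hs, ← Matrix.dotProduct_mulVec]
    rfl
  have hψneg : ∀ w, ∀ s < D.nroots, ψ w (D.neg s) = - ψ w s := by
    intro w s hs
    rw [hψlin w _ (C.neg_lt s hs), hψlin w s hs, ← Finset.sum_neg_distrib]
    exact Finset.sum_congr rfl fun j _ => by rw [C.coef_neg s hs j j.isLt]; ring
  let bad : M.Group → Finset ℕ := fun w => (Finset.range D.nroots).filter fun s => D.IsPosRoot s ∧ ψ w s < 0
  have hex : ∀ n w, (bad w).card ≤ n → ∃ w', ∀ s, D.IsPosRoot s → 0 < ψ w' s := by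
    intro n
    induction n with
    | zero =>
      intro w hw
      refine ⟨w, fun s hs => ?_⟩
      rcases lt_trichotomy (ψ w s) 0 with h | h | h
      · have : s ∈ bad w := Finset.mem_filter.mpr ⟨Finset.mem_range.mpr hs.1, hs, h⟩
        rw [Finset.card_eq_zero.mp (Nat.le_zero.mp hw)] at this
        simp at this
      · exact absurd h (hφ0 _ (C.rootImage_lt hM w hs.1))
      · exact h
    | succ n ih =>
      intro w hw
      by_cases hall : ∀ s, D.IsPosRoot s → 0 < ψ w s
      · exact ⟨w, hall⟩
      push Not at hall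
      obtain ⟨s, hs, hs'⟩ := hall
      obtain ⟨i, hi⟩ : ∃ i : Fin D.rank, ψ w (D.simple i) < 0 := by
        by_contra hno
        push Not at hno
        have h0 : 0 ≤ ψ w s := by
          rw [hψlin w s hs.1]
          exact Finset.sum_nonneg fun j _ => mul_nonneg ((C.pos_iff s hs.1).mp hs j j.isLt) (hno j)
        exact hφ0 _ (C.rootImage_lt hM w hs.1) (le_antisymm hs' h0)
      have hp := C.simple_lt i i.isLt
      have hstep : ∀ t < D.nroots, ψ (w * M.simple i) t = ψ w (D.reflectRoot i t) := fun t ht => by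
        show φ _ = φ _
        rw [C.rootImage_mul hM _ _ ht, C.rootImage_simple hM i ht]
      refine ih (w * M.simple i) ?_
      have hmap : ∀ t ∈ bad (w * M.simple i), D.reflectRoot i t ∈ (bad w).erase (D.simple i) := by
        intro t ht
        obtain ⟨htr, htp, htn⟩ := Finset.mem_filter.mp ht
        rw [hstep t htp.1] at htn
        have hne : t ≠ D.simple i := by
          rintro rfl
          rw [C.refl_simple i.isLt, hψneg w _ hp] at htn
          omega
        have hpos := C.pos_refl i.isLt htp hne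
        refine Finset.mem_erase.mpr ⟨fun e => ?_, Finset.mem_filter.mpr ⟨Finset.mem_range.mpr hpos.1, hpos, htn⟩⟩
        have e2 := congrArg (D.reflectRoot i) e
        rw [C.refl_refl i.isLt htp.1, C.refl_simple i.isLt] at e2
        exact C.not_pos_and_neg htp (e2 ▸ C.negRoot_neg (C.pos_simple i.isLt))
      have h1 := Finset.card_le_card_of_injOn (fun t => D.reflectRoot i t) hmap fun t ht t' ht' e =>
        C.refl_inj i.isLt (Finset.mem_filter.mp ht).2.1.1 (Finset.mem_filter.mp ht').2.1.1 e
      have hbi : D.simple i ∈ bad w :=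
        Finset.mem_filter.mpr ⟨Finset.mem_range.mpr hp, C.pos_simple i.isLt, hi⟩
      rw [Finset.card_erase_of_mem hbi] at h1
      have := Finset.card_pos.mpr ⟨_, hbi⟩
      omega
  obtain ⟨w, hw⟩ := hex _ 1 le_rfl
  set z := cs.wordProd L with hz
  set g := w⁻¹ * z * w with hg
  have hg1 : g = 1 := by
    by_contra hne
    obtain ⟨i, hi⟩ := cs.exists_rightDescent_of_ne_one hne
    have hp := C.simple_lt i i.isLt
    have hneg := C.neg_of_descent hM g i hi
    have hlt := C.rootImage_lt hM g hp
    have h1 : ψ w (C.rootImage hM g (D.simple i)) = ψ w (D.simple i) := by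
      show φ (C.rootImage hM w _) = φ (C.rootImage hM w _)
      rw [← C.rootImage_mul hM w g hp, hg, mul_assoc, mul_inv_cancel_left, C.rootImage_mul hM z w hp, hz,
        C.rootImage_wordProd hM L (C.rootImage_lt hM w hp), hφA _ (C.rootImage_lt hM w hp)]
    have h2 := hw _ (C.posRoot_neg hneg)
    rw [hψneg w _ hlt, h1] at h2
    have := hw _ (C.pos_simple i.isLt)
    omega
  have hz1 : z = 1 := by
    have : z = w * g * w⁻¹ := by rw [hg]; group
    rw [this, hg1, mul_one, mul_inv_cancel]
  intro s hs
  rw [← C.rootImage_wordProd hM L hs, ← hcs, ← hz, hz1, C.rootImage_one hM]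

end Cfsg.Agent.Chars2.SingerTorus
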